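import Mathlib

/-!
# Projections of a ℤ-graded module onto its pieces (helper9)

`ℳ : ℤ → AddSubgroup M` with `DirectSum.Decomposition ℳ` and `SetLike.GradedSMul 𝒜 ℳ`.
-/

set_option autoImplicit false
set_option linter.unusedSectionVars false

namespace Groth.Agent.H9.GrProj

open DirectSum

universe u

section Basic

variable {M : Type*} [AddCommGroup M] {τM : Type*} [SetLike τM M] [AddSubgroupClass τM M]
  (ℳ : ℤ → τM) [DirectSum.Decomposition ℳ]

/-- The projection onto the degree-`n` piece, as an additive map `M → M`. -/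
noncomputable def projM (n : ℤ) : M →+ M where
  toFun m := ((DirectSum.decompose ℳ m) n : M)
  map_zero' := by simp
  map_add' x y := by simp

theorem projM_apply (n : ℤ) (m : M) : projM ℳ n m = ((DirectSum.decompose ℳ m) n : M) := rfl

theorem projM_mem (n : ℤ) (m : M) : projM ℳ n m ∈ ℳ n := SetLike.coe_mem _

theorem projM_of_mem_same {n : ℤ} {m : M} (hm : m ∈ ℳ n) : projM ℳ n m = m :=
  DirectSum.decompose_of_mem_same ℳ hm

theorem projM_of_mem_ne {p n : ℤ} {m : M} (hm : m ∈ ℳ p) (h : p ≠ n) : projM ℳ n m = 0 :=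
  DirectSum.decompose_of_mem_ne ℳ hm h

theorem projM_of_mem {p n : ℤ} {m : M} (hm : m ∈ ℳ p) :
    projM ℳ n m = if p = n then m else 0 := by
  split_ifs with h
  · subst h; exact projM_of_mem_same ℳ hm
  · exact projM_of_mem_ne ℳ hm h

end Basic

section Smul

variable {R : Type*} [CommRing R] {σ : Type*} [SetLike σ R] [AddSubgroupClass σ R]
  (𝒜 : ℤ → σ) [GradedRing 𝒜]
  {M : Type*} [AddCommGroup M] [Module R M] {τM : Type*} [SetLike τM M] [AddSubgroupClass τM M]
  (ℳ : ℤ → τM) [DirectSum.Decomposition ℳ]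
  [SetLike.GradedSMul 𝒜 ℳ]

theorem smul_mem {p q : ℤ} {r : R} {m : M} (hr : r ∈ 𝒜 p) (hm : m ∈ ℳ q) :
    r • m ∈ ℳ (p + q) := SetLike.GradedSMul.smul_mem hr hm

/-- `proj_n (r • m) = r • proj_{n-p} m` for `r` homogeneous of degree `p`. -/
theorem projM_smul_of_mem {p : ℤ} {r : R} (hr : r ∈ 𝒜 p) (n : ℤ) (m : M) :
    projM ℳ n (r • m) = r • projM ℳ (n - p) m := by
  induction m using DirectSum.Decomposition.inductionOn ℳ with
  | zero => simp
  | add x y hx hy => rw [smul_add, map_add, map_add, hx, hy, smul_add]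
  | homogeneous m =>
    rename_i q
    rw [projM_of_mem ℳ (smul_mem 𝒜 ℳ hr m.2), projM_of_mem ℳ m.2]
    by_cases h : p + q = n
    · rw [if_pos h, if_pos (by omega)]
    · rw [if_neg h, if_neg (by omega), smul_zero]

/-- `proj_n (r • m) = (proj_{n-q} r) • m` for `m` homogeneous of degree `q`. -/
theorem projM_smul_of_mem' {q : ℤ} {m : M} (hm : m ∈ ℳ q) (n : ℤ) (r : R) :
    projM ℳ n (r • m) = ((DirectSum.decompose 𝒜 r) (n - q) : R) • m := by
  induction r using DirectSum.Decomposition.inductionOn 𝒜 with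
  | zero => simp
  | add x y hx hy =>
    rw [add_smul, map_add, hx, hy, DirectSum.decompose_add, DirectSum.add_apply,
      AddMemClass.coe_add, add_smul]
  | homogeneous r =>
    rename_i p
    rw [projM_of_mem ℳ (smul_mem 𝒜 ℳ r.2 hm)]
    by_cases h : p + q = n
    · rw [if_pos h, DirectSum.decompose_of_mem_same 𝒜 (by
        have : n - q = p := by omega
        rw [this]; exact r.2)]
    · rw [if_neg h, DirectSum.decompose_of_mem_ne 𝒜 r.2 (by omega), zero_smul]

end Smul

section Gens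

variable {R : Type*} [CommRing R] {σ : Type*} [SetLike σ R] [AddSubgroupClass σ R]
  (𝒜 : ℤ → σ) [GradedRing 𝒜]
  {M : Type*} [AddCommGroup M] [Module R M] {τM : Type*} [SetLike τM M] [AddSubgroupClass τM M]
  (ℳ : ℤ → τM) [DirectSum.Decomposition ℳ]
  [SetLike.GradedSMul 𝒜 ℳ]

/-- A finitely generated graded module has a finite set of homogeneous generators, and a
homogeneous element is a combination with homogeneous coefficients of the right degrees. -/
theorem exists_homogeneous_gens [Module.Finite R M] :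
    ∃ (G : Finset M) (α : M → ℤ), (∀ g ∈ G, g ∈ ℳ (α g)) ∧
      ∀ (n : ℤ) (x : M), x ∈ ℳ n →
        ∃ r : M → R, (∀ g ∈ G, r g ∈ 𝒜 (n - α g)) ∧ x = ∑ g ∈ G, r g • g := by
  classical
  obtain ⟨G₀, hG₀⟩ := (Module.finite_def.1 (inferInstance : Module.Finite R M))
  -- all homogeneous components of elements of `G₀`
  set G : Finset M := G₀.biUnion fun g => (DirectSum.decompose ℳ g).support.image
    fun n => ((DirectSum.decompose ℳ g) n : M) with hG
  have hhom : ∀ g ∈ G, ∃ a : ℤ, g ∈ ℳ a := by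
    intro g hg
    rw [hG, Finset.mem_biUnion] at hg
    obtain ⟨g₀, _, hg⟩ := hg
    rw [Finset.mem_image] at hg
    obtain ⟨n, _, rfl⟩ := hg
    exact ⟨n, SetLike.coe_mem _⟩
  have hα : ∀ g : M, ∃ a : ℤ, g ∈ G → g ∈ ℳ a := by
    intro g
    by_cases hg : g ∈ G
    · obtain ⟨a, ha⟩ := hhom g hg
      exact ⟨a, fun _ => ha⟩
    · exact ⟨0, fun h => absurd h hg⟩
  choose α hα using hα
  have hspan : Submodule.span R (G : Set M) = ⊤ := by
    rw [eq_top_iff, ← hG₀, Submodule.span_le]
    intro g hg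
    rw [← DirectSum.sum_support_decompose ℳ g]
    refine Submodule.sum_mem _ fun n hn => Submodule.subset_span ?_
    rw [hG, Finset.mem_coe, Finset.mem_biUnion]
    exact ⟨g, hg, Finset.mem_image_of_mem _ hn⟩
  refine ⟨G, α, hα, fun n x hx => ?_⟩
  have hx' : x ∈ Submodule.span R (G : Set M) := by rw [hspan]; trivial
  obtain ⟨f, -, hf⟩ := Submodule.mem_span_finset.1 hx'
  refine ⟨fun g => ((DirectSum.decompose 𝒜 (f g)) (n - α g) : R), fun g _ => SetLike.coe_mem _, ?_⟩
  calc x = projM ℳ n x := (projM_of_mem_same ℳ hx).symm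
    _ = projM ℳ n (∑ g ∈ G, f g • g) := by rw [hf]
    _ = ∑ g ∈ G, projM ℳ n (f g • g) := map_sum _ _ _
    _ = ∑ g ∈ G, ((DirectSum.decompose 𝒜 (f g)) (n - α g) : R) • g :=
      Finset.sum_congr rfl fun g hg => projM_smul_of_mem' 𝒜 ℳ (hα g hg) n (f g)

end Gens

end Groth.Agent.H9.GrProj
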