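import Mathlib
import Groth.Prelude.Def_GrSeg
import Groth.Agent.Lib.Helper9.SegreNoeth
import Groth.Agent.Lib.Helper9.Segre.GrProj

/-!
# The Segre product of finitely generated graded modules is finitely generated (helper9)
-/

set_option autoImplicit false
set_option linter.unusedSectionVars false

namespace Groth.Agent.H9.SegreMod

open TensorProduct DirectSum Groth.Agent.H9.SegreNoeth Groth.Agent.H9.GrProj

universe u

variable {k : Type u} [Field k] {R : Type u} [CommRing R] [Algebra k R]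
  (𝒜 : ℤ → Submodule k R) [GradedAlgebra 𝒜]
  {S : Type u} [CommRing S] [Algebra k S] (ℬ : ℤ → Submodule k S) [GradedAlgebra ℬ]

/-- component of the shifted diagonal projection -/
noncomputable def compD (d p : ℤ) : 𝒜 p →ₗ[k] S →ₗ[k] R ⊗[k] S :=
  ((TensorProduct.mk k R S).domRestrict (𝒜 p)).compl₂ (GradedAlgebra.proj ℬ (p + d))

noncomputable def betaD (d : ℤ) : R →ₗ[k] S →ₗ[k] R ⊗[k] S :=
  (DirectSum.toModule k ℤ _ (compD 𝒜 ℬ d)) ∘ₗ (DirectSum.decomposeLinearEquiv 𝒜).toLinearMap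

/-- The projection onto the bidegrees `(p, p + d)`. -/
noncomputable def piD (d : ℤ) : R ⊗[k] S →ₗ[k] R ⊗[k] S := TensorProduct.lift (betaD 𝒜 ℬ d)

theorem piD_tmul_of_mem (d : ℤ) {p : ℤ} {a : R} (ha : a ∈ 𝒜 p) (b : S) :
    piD 𝒜 ℬ d (a ⊗ₜ[k] b) = a ⊗ₜ[k] GradedAlgebra.proj ℬ (p + d) b := by
  rw [piD, TensorProduct.lift.tmul, betaD, LinearMap.comp_apply, LinearEquiv.coe_coe,
    DirectSum.decomposeLinearEquiv_apply, DirectSum.decompose_of_mem 𝒜 ha]
  erw [DirectSum.toModule_lof]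
  rfl

theorem piD_tmul_of_mem_mem (d : ℤ) {p : ℤ} {a : R} (ha : a ∈ 𝒜 p) {b : S} (hb : b ∈ ℬ (p + d)) :
    piD 𝒜 ℬ d (a ⊗ₜ[k] b) = a ⊗ₜ[k] b := by
  rw [piD_tmul_of_mem 𝒜 ℬ d ha, GradedAlgebra.proj_apply, DirectSum.decompose_of_mem_same ℬ hb]

/-- `π_d (f * c) = π (f) * c` for `c` of bidegree `(p, p + d)`. -/
theorem piD_mul_of_mem (d : ℤ) {p : ℤ} {a : R} (ha : a ∈ 𝒜 p) {b : S} (hb : b ∈ ℬ (p + d))
    (f : R ⊗[k] S) : piD 𝒜 ℬ d (f * (a ⊗ₜ[k] b)) = pi 𝒜 ℬ f * (a ⊗ₜ[k] b) := by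
  induction f using TensorProduct.induction_on with
  | zero => simp
  | add x y hx hy => rw [add_mul, map_add, hx, hy, map_add, add_mul]
  | tmul a' b' =>
    induction a' using DirectSum.Decomposition.inductionOn 𝒜 with
    | zero => simp
    | add x y hx hy =>
      rw [TensorProduct.add_tmul, add_mul, map_add, hx, hy, map_add, add_mul]
    | homogeneous a' =>
      rename_i q
      rw [Algebra.TensorProduct.tmul_mul_tmul,
        piD_tmul_of_mem 𝒜 ℬ d (SetLike.mul_mem_graded a'.2 ha),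
        pi_tmul_of_mem 𝒜 ℬ a'.2, Algebra.TensorProduct.tmul_mul_tmul,
        GradedAlgebra.proj_apply, GradedAlgebra.proj_apply]
      have : q + p + d = q + (p + d) := by ring
      rw [this, DirectSum.coe_decompose_mul_add_of_right_mem ℬ hb]

/-- The `k`-span of the tensors of bidegree `(p, p + d)`. -/
def QD (d : ℤ) : Submodule k (R ⊗[k] S) :=
  Submodule.span k {x | ∃ p : ℤ, ∃ a ∈ 𝒜 p, ∃ b ∈ ℬ (p + d), x = a ⊗ₜ[k] b}

theorem piD_of_mem_QD (d : ℤ) {y : R ⊗[k] S} (hy : y ∈ QD 𝒜 ℬ d) : piD 𝒜 ℬ d y = y := by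
  induction hy using Submodule.span_induction with
  | mem x hx =>
    obtain ⟨p, a, ha, b, hb, rfl⟩ := hx
    exact piD_tmul_of_mem_mem 𝒜 ℬ d ha hb
  | zero => simp
  | add x y _ _ hx hy => rw [map_add, hx, hy]
  | smul r x _ hx => rw [map_smul, hx]

theorem piD_mul_of_mem_QD (d : ℤ) {c : R ⊗[k] S} (hc : c ∈ QD 𝒜 ℬ d) (f : R ⊗[k] S) :
    piD 𝒜 ℬ d (f * c) = pi 𝒜 ℬ f * c := by
  induction hc using Submodule.span_induction with
  | mem x hx =>
    obtain ⟨p, a, ha, b, hb, rfl⟩ := hx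
    exact piD_mul_of_mem 𝒜 ℬ d ha hb f
  | zero => simp
  | add x y _ _ hx hy => rw [mul_add, map_add, hx, hy, mul_add]
  | smul r x _ hx => rw [mul_smul_comm, map_smul, hx, mul_smul_comm]

section Main

variable {T : Type u} [CommRing T] [Algebra k T] (𝒯 : ℤ → Submodule k T) [GradedAlgebra 𝒯]
  (ψ : T →ₐ[k] R ⊗[k] S)
  (hdegT : ∀ n : ℤ, (𝒯 n).map ψ.toLinearMap =
    Submodule.span k {x : R ⊗[k] S | ∃ a ∈ 𝒜 n, ∃ b ∈ ℬ n, x = a ⊗ₜ[k] b})

include hdegT

/-- `Q_d` is finitely generated over the Segre product `T`. -/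
theorem exists_finite_gens_QD [IsNoetherianRing (R ⊗[k] S)] (d : ℤ) :
    ∃ C : Finset (R ⊗[k] S), (∀ c ∈ C, c ∈ QD 𝒜 ℬ d) ∧
      ∀ y ∈ QD 𝒜 ℬ d, ∃ t : R ⊗[k] S → T, y = ∑ c ∈ C, ψ (t c) * c := by
  classical
  have hfg : (Ideal.span (QD 𝒜 ℬ d : Set (R ⊗[k] S)) : Ideal (R ⊗[k] S)).FG :=
    IsNoetherian.noetherian _
  obtain ⟨C, hC, hspan⟩ := (Submodule.fg_span_iff_fg_span_finset_subset _).1 hfg
  refine ⟨C, fun c hc => hC hc, fun y hy => ?_⟩
  have h1 : y ∈ Submodule.span (R ⊗[k] S) (C : Set (R ⊗[k] S)) := by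
    rw [← hspan]
    exact Ideal.subset_span hy
  obtain ⟨f, _, hf⟩ := Submodule.mem_span_finset.1 h1
  choose τ hτ using exists_psi_eq_pi 𝒜 ℬ 𝒯 ψ hdegT
  refine ⟨fun c => τ (f c), ?_⟩
  rw [← piD_of_mem_QD 𝒜 ℬ d hy, ← hf, map_sum]
  refine Finset.sum_congr rfl fun c hc => ?_
  rw [smul_eq_mul, piD_mul_of_mem_QD 𝒜 ℬ d (hC hc), hτ]

end Main

section Act

variable {M N : Type u} [AddCommGroup M] [Module R M] [Module k M] [IsScalarTower k R M]
  [AddCommGroup N] [Module S N] [Module k N] [IsScalarTower k S N]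

theorem act_mul_apply (x y : R ⊗[k] S) (e : M ⊗[k] N) :
    GrSeg.act k R S M N (x * y) e = GrSeg.act k R S M N x (GrSeg.act k R S M N y e) := by
  induction x using TensorProduct.induction_on with
  | zero => simp
  | add x x' hx hx' => simp [add_mul, hx, hx']
  | tmul r s =>
    induction y using TensorProduct.induction_on with
    | zero => simp
    | add y y' hy hy' => simp [mul_add, hy, hy']
    | tmul r' s' =>
      induction e using TensorProduct.induction_on with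
      | zero => simp
      | add e e' he he' =>
        rw [map_add, he, he', map_add, map_add]
      | tmul m n => simp [GrSeg.act_tmul, mul_smul]

end Act

section Finite

variable {T : Type u} [CommRing T] [Algebra k T] (𝒯 : ℤ → Submodule k T) [GradedAlgebra 𝒯]
  (ψ : T →ₐ[k] R ⊗[k] S)
  {M N P : Type u} [AddCommGroup M] [Module R M] [Module k M] [IsScalarTower k R M]
  [AddCommGroup N] [Module S N] [Module k N] [IsScalarTower k S N]
  [AddCommGroup P] [Module T P] [Module k P] [IsScalarTower k T P]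
  (ℳ : ℤ → AddSubgroup M) [DirectSum.Decomposition ℳ] [SetLike.GradedSMul 𝒜 ℳ]
  (𝒩 : ℤ → AddSubgroup N) [DirectSum.Decomposition 𝒩] [SetLike.GradedSMul ℬ 𝒩]
  (𝒬 : ℤ → AddSubgroup P) [DirectSum.Decomposition 𝒬] (φ : P →ₗ[k] M ⊗[k] N)

/-- Elements of `Q_d` carry `g ⊗ h` (of degrees `a`, `b` with `d = a - b`) into the image
of `φ`. -/
theorem act_mem_range (hP : GrSeg.IsSegreMod ψ ℳ 𝒩 𝒬 φ) {d a b : ℤ} (hd : d = a - b)
    {c : R ⊗[k] S} (hc : c ∈ QD 𝒜 ℬ d) {g : M} (hg : g ∈ ℳ a) {h : N} (hh : h ∈ 𝒩 b) :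
    GrSeg.act k R S M N c (g ⊗ₜ[k] h) ∈ LinearMap.range φ := by
  induction hc using Submodule.span_induction with
  | mem x hx =>
    obtain ⟨p, r, hr, s, hs, rfl⟩ := hx
    rw [GrSeg.act_tmul]
    have h1 : (r • g) ⊗ₜ[k] (s • h) ∈ (GrSeg.segrePiece k ℳ 𝒩 (p + a) : Set (M ⊗[k] N)) := by
      apply Submodule.subset_span
      refine ⟨r • g, smul_mem 𝒜 ℳ hr hg, s • h, ?_, rfl⟩
      have := smul_mem ℬ 𝒩 hs hh
      have e : p + d + b = p + a := by omega
      rwa [e] at this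
    rw [← hP.image_piece] at h1
    obtain ⟨q, _, hq⟩ := h1
    exact ⟨q, hq⟩
  | zero => simp
  | add x y _ _ hx hy =>
    rw [map_add, LinearMap.add_apply]
    exact Submodule.add_mem _ hx hy
  | smul r x _ hx =>
    rw [map_smul, LinearMap.smul_apply]
    exact Submodule.smul_mem _ _ hx

include 𝒯 in
theorem moduleFinite (hT : GrSeg.IsSegreRing 𝒜 ℬ 𝒯 ψ) [IsNoetherianRing (R ⊗[k] S)]
    [Module.Finite R M] [Module.Finite S N] (hP : GrSeg.IsSegreMod ψ ℳ 𝒩 𝒬 φ) :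
    Module.Finite T P := by
  classical
  obtain ⟨GM, α, hα, hMgen⟩ := exists_homogeneous_gens 𝒜 ℳ
  obtain ⟨GN, β, hβ, hNgen⟩ := exists_homogeneous_gens ℬ 𝒩
  choose C hC hCgen using fun d : ℤ => exists_finite_gens_QD 𝒜 ℬ 𝒯 ψ hT.2 d
  -- the finite set of images of generators
  set F : Finset (M ⊗[k] N) := GM.biUnion fun g => GN.biUnion fun h =>
    (C (α g - β h)).image fun c => GrSeg.act k R S M N c (g ⊗ₜ[k] h) with hF
  have hfin : (φ ⁻¹' (F : Set (M ⊗[k] N))).Finite :=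
    Set.Finite.preimage hP.injective.injOn F.finite_toSet
  refine ⟨⟨hfin.toFinset, ?_⟩⟩
  rw [Set.Finite.coe_toFinset]
  set W : Submodule T P := Submodule.span T (φ ⁻¹' (F : Set (M ⊗[k] N))) with hW
  -- image of `W` in `M ⊗ N`
  set E : Submodule k (M ⊗[k] N) := (W.restrictScalars k).map φ with hE
  have hgen : ∀ g ∈ GM, ∀ h ∈ GN, ∀ c ∈ C (α g - β h), ∀ t : T,
      GrSeg.act k R S M N (ψ t * c) (g ⊗ₜ[k] h) ∈ E := by
    intro g hg h hh c hc t
    obtain ⟨q, hq⟩ := act_mem_range 𝒜 ℬ ψ ℳ 𝒩 𝒬 φ hP rfl (hC _ c hc) (hα g hg) (hβ h hh)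
    rw [act_mul_apply, ← hq, ← hP.map_smul]
    refine ⟨t • q, ?_, rfl⟩
    rw [Submodule.coe_restrictScalars]
    refine W.smul_mem t (Submodule.subset_span ?_)
    rw [Set.mem_preimage, hq, hF, Finset.mem_coe, Finset.mem_biUnion]
    refine ⟨g, hg, ?_⟩
    rw [Finset.mem_biUnion]
    exact ⟨h, hh, Finset.mem_image_of_mem _ hc⟩
  have hpiece : ∀ n : ℤ, GrSeg.segrePiece k ℳ 𝒩 n ≤ E := by
    intro n
    rw [GrSeg.segrePiece, Submodule.span_le]
    rintro _ ⟨x, hx, y, hy, rfl⟩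
    obtain ⟨r, hr, hxr⟩ := hMgen n x hx
    obtain ⟨s, hs, hys⟩ := hNgen n y hy
    rw [hxr, hys, TensorProduct.sum_tmul]
    refine Submodule.sum_mem _ fun g hg => ?_
    rw [TensorProduct.tmul_sum]
    refine Submodule.sum_mem _ fun h hh => ?_
    rw [← GrSeg.act_tmul]
    have hq : r g ⊗ₜ[k] s h ∈ QD 𝒜 ℬ (α g - β h) := by
      apply Submodule.subset_span
      refine ⟨n - α g, r g, hr g hg, s h, ?_, rfl⟩
      have e : n - α g + (α g - β h) = n - β h := by ring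
      rw [e]
      exact hs h hh
    obtain ⟨t, ht⟩ := hCgen _ _ hq
    rw [ht, map_sum, LinearMap.sum_apply]
    exact Submodule.sum_mem _ fun c hc => hgen g hg h hh c hc (t c)
  rw [eq_top_iff]
  intro p hp
  clear hp
  induction p using DirectSum.Decomposition.inductionOn 𝒬 with
  | zero => exact W.zero_mem
  | add x y hx hy => exact W.add_mem hx hy
  | homogeneous p =>
    rename_i n
    have h1 : φ p ∈ (GrSeg.segrePiece k ℳ 𝒩 n : Set (M ⊗[k] N)) := by
      rw [← hP.image_piece]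
      exact ⟨p, p.2, rfl⟩
    obtain ⟨w, hw, hwp⟩ := hpiece n h1
    rw [← hP.injective hwp]
    exact hw

end Finite

end Groth.Agent.H9.SegreMod
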