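import Mathlib
import Groth.Prelude.Def_GrSeg
import Groth.Agent.Lib.Helper9.Segre.GrProj

/-!
# Segre modules: elementary facts (helper9)
-/

set_option autoImplicit false
set_option linter.unusedSectionVars false

namespace Groth.Agent.H9.SegreBij

open TensorProduct DirectSum Groth.Agent.H9.GrProj

universe u

variable {k : Type u} [Field k] {R : Type u} [CommRing R] [Algebra k R]
  (𝒜 : ℤ → Submodule k R) [GradedAlgebra 𝒜]
  {S : Type u} [CommRing S] [Algebra k S] (ℬ : ℤ → Submodule k S) [GradedAlgebra ℬ]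
  {T : Type u} [CommRing T] [Algebra k T] (𝒯 : ℤ → Submodule k T) [GradedAlgebra 𝒯]
  (ψ : T →ₐ[k] R ⊗[k] S)
  {M N P : Type u} [AddCommGroup M] [Module R M] [Module k M] [IsScalarTower k R M]
  [AddCommGroup N] [Module S N] [Module k N] [IsScalarTower k S N]
  [AddCommGroup P] [Module T P] [Module k P] [IsScalarTower k T P]
  (ℳ : ℤ → AddSubgroup M) [DirectSum.Decomposition ℳ] [SetLike.GradedSMul 𝒜 ℳ]
  (𝒩 : ℤ → AddSubgroup N) [DirectSum.Decomposition 𝒩] [SetLike.GradedSMul ℬ 𝒩]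
  (𝒬 : ℤ → AddSubgroup P) [DirectSum.Decomposition 𝒬] (φ : P →ₗ[k] M ⊗[k] N)

/-- If `r` (homogeneous of degree `d`) acts bijectively, the preimage of a homogeneous element
is homogeneous. -/
theorem preimage_mem {d : ℤ} {r : R} (hr : r ∈ 𝒜 d)
    (hinj : Function.Injective (fun x : M => r • x)) {n : ℤ} {x : M} (hx : r • x ∈ ℳ n) :
    x ∈ ℳ (n - d) := by
  have h1 : projM ℳ n (r • x) = r • x := projM_of_mem_same ℳ hx
  rw [projM_smul_of_mem 𝒜 ℳ hr] at h1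
  have h2 : projM ℳ (n - d) x = x := hinj h1
  rw [← h2]
  exact projM_mem ℳ _ _

/-- multiplication by `r` as a `k`-linear equivalence -/
noncomputable def smulEquiv (r : R) (h : Function.Bijective (fun x : M => r • x)) : M ≃ₗ[k] M :=
  LinearEquiv.ofBijective
    { toFun := fun x => r • x
      map_add' := smul_add r
      map_smul' := fun c x => by simp only [RingHom.id_apply]; exact smul_comm r c x } h

@[simp] theorem smulEquiv_apply (r : R) (h : Function.Bijective (fun x : M => r • x)) (x : M) :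
    smulEquiv (k := k) r h x = r • x := rfl

theorem act_tmul_eq_congr (r : R) (s : S) (hr : Function.Bijective (fun x : M => r • x))
    (hs : Function.Bijective (fun y : N => s • y)) (e : M ⊗[k] N) :
    GrSeg.act k R S M N (r ⊗ₜ[k] s) e
      = TensorProduct.congr (smulEquiv (k := k) r hr) (smulEquiv (k := k) s hs) e := by
  induction e using TensorProduct.induction_on with
  | zero => simp
  | add x y hx hy => rw [map_add, hx, hy, map_add]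
  | tmul m n => rw [GrSeg.act_tmul, TensorProduct.congr_tmul]; rfl

/-- The piece of `P` containing an element is detected by `φ`. -/
theorem mem_piece_of_map_mem (hP : GrSeg.IsSegreMod ψ ℳ 𝒩 𝒬 φ) {n : ℤ} {p : P}
    (h : φ p ∈ GrSeg.segrePiece k ℳ 𝒩 n) : p ∈ 𝒬 n := by
  have h' : φ p ∈ (GrSeg.segrePiece k ℳ 𝒩 n : Set (M ⊗[k] N)) := h
  rw [← hP.image_piece] at h'
  obtain ⟨q, hq, hqp⟩ := h'
  rw [← hP.injective hqp]
  exact hq

theorem map_mem_piece (hP : GrSeg.IsSegreMod ψ ℳ 𝒩 𝒬 φ) {n : ℤ} {p : P} (h : p ∈ 𝒬 n) :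
    φ p ∈ GrSeg.segrePiece k ℳ 𝒩 n := by
  have : φ p ∈ (GrSeg.segrePiece k ℳ 𝒩 n : Set (M ⊗[k] N)) := by
    rw [← hP.image_piece]
    exact ⟨p, h, rfl⟩
  exact this

theorem exists_of_mem_piece (hP : GrSeg.IsSegreMod ψ ℳ 𝒩 𝒬 φ) {n : ℤ} {e : M ⊗[k] N}
    (h : e ∈ GrSeg.segrePiece k ℳ 𝒩 n) : ∃ p ∈ 𝒬 n, φ p = e := by
  have h' : e ∈ (GrSeg.segrePiece k ℳ 𝒩 n : Set (M ⊗[k] N)) := h
  rw [← hP.image_piece] at h'
  exact h'

/-- Homogeneous tensors act homogeneously. -/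
theorem act_mem_piece' {c n : ℤ} {z : R ⊗[k] S}
    (hz : z ∈ Submodule.span k {x : R ⊗[k] S | ∃ a ∈ 𝒜 c, ∃ b ∈ ℬ c, x = a ⊗ₜ[k] b})
    {e : M ⊗[k] N} (he : e ∈ GrSeg.segrePiece k ℳ 𝒩 n) :
    GrSeg.act k R S M N z e ∈ GrSeg.segrePiece k ℳ 𝒩 (c + n) := by
  induction hz using Submodule.span_induction with
  | mem z hz =>
    obtain ⟨a, ha, b, hb, rfl⟩ := hz
    rw [GrSeg.segrePiece] at he
    induction he using Submodule.span_induction with
    | mem w hw =>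
      obtain ⟨x, hx, y, hy, rfl⟩ := hw
      rw [GrSeg.act_tmul]
      exact Submodule.subset_span ⟨a • x, smul_mem 𝒜 ℳ ha hx, b • y, smul_mem ℬ 𝒩 hb hy, rfl⟩
    | zero => simp
    | add x y _ _ hx hy => rw [map_add]; exact Submodule.add_mem _ hx hy
    | smul r x _ hx => rw [map_smul]; exact Submodule.smul_mem _ _ hx
  | zero => simp
  | add x y _ _ hx hy =>
    rw [map_add, LinearMap.add_apply]; exact Submodule.add_mem _ hx hy
  | smul r x _ hx =>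
    rw [map_smul, LinearMap.smul_apply]; exact Submodule.smul_mem _ _ hx

/-- `ψ` of a homogeneous element acts homogeneously. -/
theorem act_mem_piece (hT : GrSeg.IsSegreRing 𝒜 ℬ 𝒯 ψ) {c n : ℤ} {t : T} (ht : t ∈ 𝒯 c)
    {e : M ⊗[k] N} (he : e ∈ GrSeg.segrePiece k ℳ 𝒩 n) :
    GrSeg.act k R S M N (ψ t) e ∈ GrSeg.segrePiece k ℳ 𝒩 (c + n) := by
  have h1 : ψ t ∈ (𝒯 c).map ψ.toLinearMap := ⟨t, ht, rfl⟩
  rw [hT.2] at h1
  exact act_mem_piece' 𝒜 ℬ ℳ 𝒩 h1 he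

theorem smul_mem_piece (hT : GrSeg.IsSegreRing 𝒜 ℬ 𝒯 ψ) (hP : GrSeg.IsSegreMod ψ ℳ 𝒩 𝒬 φ)
    {c n : ℤ} {t : T} (ht : t ∈ 𝒯 c) {p : P} (hp : p ∈ 𝒬 n) : t • p ∈ 𝒬 (c + n) := by
  apply mem_piece_of_map_mem ψ ℳ 𝒩 𝒬 φ hP
  rw [hP.map_smul]
  exact act_mem_piece 𝒜 ℬ 𝒯 ψ ℳ 𝒩 hT ht (map_mem_piece ψ ℳ 𝒩 𝒬 φ hP hp)

/-- The graded action of `T` on `P`, derived from the Segre presentation. -/
theorem gradedSMul (hT : GrSeg.IsSegreRing 𝒜 ℬ 𝒯 ψ) (hP : GrSeg.IsSegreMod ψ ℳ 𝒩 𝒬 φ) :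
    SetLike.GradedSMul 𝒯 𝒬 :=
  ⟨fun {_ _ _ _} ht hp => smul_mem_piece 𝒜 ℬ 𝒯 ψ ℳ 𝒩 𝒬 φ hT hP ht hp⟩

/-- S19748 -/
theorem exists_bijective (hT : GrSeg.IsSegreRing 𝒜 ℬ 𝒯 ψ) (hP : GrSeg.IsSegreMod ψ ℳ 𝒩 𝒬 φ)
    (d : ℕ) (hd : 0 < d) (f : R) (hf : f ∈ 𝒜 (d : ℤ))
    (hfM : Function.Bijective (fun x : M => f • x))
    (e : ℕ) (he : 0 < e) (g : S) (hg : g ∈ ℬ (e : ℤ))
    (hgN : Function.Bijective (fun y : N => g • y)) :
    ∃ (c : ℤ) (t : T), 0 < c ∧ t ∈ 𝒯 c ∧ Function.Bijective (fun p : P => t • p) := by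
  have hfe : f ^ e ∈ 𝒜 ((d : ℤ) * e) := by
    have := SetLike.pow_mem_graded e hf
    rwa [nsmul_eq_mul, mul_comm] at this
  have hgd : g ^ d ∈ ℬ ((d : ℤ) * e) := by
    have := SetLike.pow_mem_graded d hg
    rwa [nsmul_eq_mul] at this
  have hfeM : Function.Bijective (fun x : M => f ^ e • x) := by
    rw [← smul_iterate]; exact hfM.iterate e
  have hgdN : Function.Bijective (fun y : N => g ^ d • y) := by
    rw [← smul_iterate]; exact hgN.iterate d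
  have hde : (0 : ℤ) < (d : ℤ) * e := by positivity
  -- the element `t`
  have h1 : (f ^ e) ⊗ₜ[k] (g ^ d) ∈ (𝒯 ((d : ℤ) * e)).map ψ.toLinearMap := by
    rw [hT.2]
    exact Submodule.subset_span ⟨_, hfe, _, hgd, rfl⟩
  obtain ⟨t, ht, htψ⟩ := h1
  have htψ' : ψ t = (f ^ e) ⊗ₜ[k] (g ^ d) := htψ
  refine ⟨(d : ℤ) * e, t, hde, ht, ?_⟩
  set E := TensorProduct.congr (smulEquiv (k := k) (f ^ e) hfeM) (smulEquiv (k := k) (g ^ d) hgdN)
    with hE
  have hact : ∀ p : P, φ (t • p) = E (φ p) := fun p => by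
    rw [hP.map_smul, htψ', act_tmul_eq_congr _ _ hfeM hgdN]
  constructor
  · intro p p' h
    have h' : t • p = t • p' := h
    apply hP.injective
    apply E.injective
    rw [← hact, ← hact, h']
  · -- surjectivity, piece by piece
    have hsymm : ∀ n : ℤ, ∀ w ∈ GrSeg.segrePiece k ℳ 𝒩 n,
        E.symm w ∈ GrSeg.segrePiece k ℳ 𝒩 (n - (d : ℤ) * e) := by
      intro n w hw
      rw [GrSeg.segrePiece] at hw
      induction hw using Submodule.span_induction with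
      | mem w hw =>
        obtain ⟨x, hx, y, hy, rfl⟩ := hw
        rw [hE, TensorProduct.congr_symm_tmul]
        refine Submodule.subset_span ⟨_, ?_, _, ?_, rfl⟩
        · apply preimage_mem 𝒜 ℳ hfe hfeM.1
          have := (smulEquiv (k := k) (f ^ e) hfeM).apply_symm_apply x
          rw [smulEquiv_apply] at this
          rw [this]; exact hx
        · apply preimage_mem ℬ 𝒩 hgd hgdN.1
          have := (smulEquiv (k := k) (g ^ d) hgdN).apply_symm_apply y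
          rw [smulEquiv_apply] at this
          rw [this]; exact hy
      | zero => simp
      | add x y _ _ hx hy => rw [map_add]; exact Submodule.add_mem _ hx hy
      | smul r x _ hx => rw [map_smul]; exact Submodule.smul_mem _ _ hx
    intro p
    induction p using DirectSum.Decomposition.inductionOn 𝒬 with
    | zero => exact ⟨0, smul_zero t⟩
    | add x y hx hy =>
      obtain ⟨x', hx'⟩ := hx
      obtain ⟨y', hy'⟩ := hy
      refine ⟨x' + y', ?_⟩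
      change t • (x' + y') = x + y
      rw [smul_add]
      exact congrArg₂ (· + ·) hx' hy'
    | homogeneous p =>
      rename_i n
      obtain ⟨q, _, hq⟩ := exists_of_mem_piece ψ ℳ 𝒩 𝒬 φ hP
        (hsymm n _ (map_mem_piece ψ ℳ 𝒩 𝒬 φ hP p.2))
      refine ⟨q, ?_⟩
      apply hP.injective
      change φ (t • q) = φ p
      rw [hact, hq, E.apply_symm_apply]

/-- S19749 -/
theorem piece_eq_smul (hT : GrSeg.IsSegreRing 𝒜 ℬ 𝒯 ψ) (hP : GrSeg.IsSegreMod ψ ℳ 𝒩 𝒬 φ)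
    (n : ℤ) (hNn : ∀ m : ℤ, n ≤ m → 𝒩 m ≠ ⊥) (x : M) (hx : x ∈ ℳ n) (y : N) (hy : y ∈ 𝒩 n)
    (p : P) (hp : φ p = x ⊗ₜ[k] y) (hgen : Submodule.span T {p} = ⊤) (d : ℤ) (hd : 0 ≤ d)
    (z : M) (hz : z ∈ ℳ (n + d)) : ∃ r ∈ 𝒜 d, r • x = z := by
  classical
  obtain ⟨⟨w, hw⟩, hw0'⟩ := (AddSubgroup.ne_bot_iff_exists_ne_zero).1 (hNn (n + d) (by omega))
  have hw0 : w ≠ 0 := fun h => hw0' (Subtype.ext h)
  have hpn : p ∈ 𝒬 n := by
    apply mem_piece_of_map_mem ψ ℳ 𝒩 𝒬 φ hP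
    rw [hp]
    exact Submodule.subset_span ⟨x, hx, y, hy, rfl⟩
  obtain ⟨q, hq, hqφ⟩ := exists_of_mem_piece ψ ℳ 𝒩 𝒬 φ hP
    (show z ⊗ₜ[k] w ∈ GrSeg.segrePiece k ℳ 𝒩 (n + d) from
      Submodule.subset_span ⟨z, hz, w, hw, rfl⟩)
  have hq' : q ∈ Submodule.span T {p} := by rw [hgen]; trivial
  obtain ⟨t, rfl⟩ := Submodule.mem_span_singleton.1 hq'
  haveI := gradedSMul 𝒜 ℬ 𝒯 ψ ℳ 𝒩 𝒬 φ hT hP
  have h1 : projM 𝒬 (n + d) (t • p) = t • p := projM_of_mem_same 𝒬 hq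
  rw [projM_smul_of_mem' 𝒯 𝒬 hpn] at h1
  have hnd : n + d - n = d := by ring
  rw [hnd] at h1
  set td : T := ((DirectSum.decompose 𝒯 t) d : T) with htd
  have htd_mem : td ∈ 𝒯 d := SetLike.coe_mem _
  have h2 : ψ td ∈ (𝒯 d).map ψ.toLinearMap := ⟨td, htd_mem, rfl⟩
  rw [hT.2] at h2
  have h3 : z ⊗ₜ[k] w = GrSeg.act k R S M N (ψ td) (x ⊗ₜ[k] y) := by
    rw [← hqφ, ← h1, hP.map_smul, hp]
  obtain ⟨l, hl⟩ : ∃ l : Module.Dual k N, l w ≠ 0 := by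
    by_contra hcon
    push_neg at hcon
    exact hw0 ((Module.forall_dual_apply_eq_zero_iff k w).1 hcon)
  set Λ : M ⊗[k] N →ₗ[k] M := (TensorProduct.rid k M).toLinearMap ∘ₗ LinearMap.lTensor M l with hΛ
  have hΛt : ∀ (m : M) (v : N), Λ (m ⊗ₜ[k] v) = l v • m := fun m v => by
    simp [hΛ]
  have key : ∀ ζ ∈ Submodule.span k {ζ : R ⊗[k] S | ∃ a ∈ 𝒜 d, ∃ b ∈ ℬ d, ζ = a ⊗ₜ[k] b},
      ∃ r ∈ 𝒜 d, Λ (GrSeg.act k R S M N ζ (x ⊗ₜ[k] y)) = r • x := by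
    intro ζ hζ
    induction hζ using Submodule.span_induction with
    | mem ζ hζ =>
      obtain ⟨a, ha, b, _, rfl⟩ := hζ
      refine ⟨l (b • y) • a, Submodule.smul_mem _ _ ha, ?_⟩
      rw [GrSeg.act_tmul, hΛt, smul_assoc]
    | zero => exact ⟨0, Submodule.zero_mem _, by simp⟩
    | add ζ ζ' _ _ h h' =>
      obtain ⟨r, hr, hr'⟩ := h
      obtain ⟨r₂, hr₂, hr₂'⟩ := h'
      refine ⟨r + r₂, Submodule.add_mem _ hr hr₂, ?_⟩
      rw [map_add, LinearMap.add_apply, map_add, hr', hr₂', add_smul]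
    | smul c ζ _ h =>
      obtain ⟨r, hr, hr'⟩ := h
      refine ⟨c • r, Submodule.smul_mem _ _ hr, ?_⟩
      rw [map_smul, LinearMap.smul_apply, map_smul, hr', smul_assoc]
  obtain ⟨r, hr, hr'⟩ := key _ h2
  rw [← h3, hΛt] at hr'
  refine ⟨(l w)⁻¹ • r, Submodule.smul_mem _ _ hr, ?_⟩
  rw [smul_assoc, ← hr', smul_smul, inv_mul_cancel₀ hl, one_smul]

end Groth.Agent.H9.SegreBij
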