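import Mathlib
import Groth.Prelude.Def_GrSeg
import Groth.Agent.Lib.Helper9.Segre.GrProj

/-!
# Segre products of shifts `R(a) # S(b)`: number of generators (helper9)
-/

set_option autoImplicit false
set_option linter.unusedSectionVars false

namespace Groth.Agent.H9.SegreShift

open TensorProduct DirectSum Groth.Agent.H9.GrProj

universe u

variable {k : Type u} [Field k] {R : Type u} [CommRing R] [Algebra k R]
  (𝒜 : ℤ → Submodule k R) [GradedAlgebra 𝒜]
  {S : Type u} [CommRing S] [Algebra k S] (ℬ : ℤ → Submodule k S) [GradedAlgebra ℬ]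
  {T : Type u} [CommRing T] [Algebra k T] (𝒯 : ℤ → Submodule k T) [GradedAlgebra 𝒯]
  (ψ : T →ₐ[k] R ⊗[k] S)
  {P : Type u} [AddCommGroup P] [Module T P] [Module k P] [IsScalarTower k T P]
  (𝒬 : ℤ → AddSubgroup P) [DirectSum.Decomposition 𝒬] (φ : P →ₗ[k] R ⊗[k] S) (a b : ℤ)

theorem act_eq_mul (z e : R ⊗[k] S) : GrSeg.act k R S R S z e = z * e := by
  induction z using TensorProduct.induction_on with
  | zero => simp
  | add x y hx hy => rw [map_add, LinearMap.add_apply, hx, hy, add_mul]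
  | tmul r s =>
    induction e using TensorProduct.induction_on with
    | zero => simp
    | add x y hx hy => rw [map_add, hx, hy, mul_add]
    | tmul r' s' =>
      rw [GrSeg.act_tmul, Algebra.TensorProduct.tmul_mul_tmul, smul_eq_mul, smul_eq_mul]

/-- the shifted Segre piece -/
abbrev pc (n : ℤ) : Submodule k (R ⊗[k] S) :=
  GrSeg.segrePiece k (fun n : ℤ => 𝒜 (n + a)) (fun n : ℤ => ℬ (n + b)) n

theorem mem_pc {n : ℤ} {x : R} (hx : x ∈ 𝒜 (n + a)) {y : S} (hy : y ∈ ℬ (n + b)) :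
    x ⊗ₜ[k] y ∈ pc 𝒜 ℬ a b n :=
  Submodule.subset_span ⟨x, hx, y, hy, rfl⟩

section WithP

variable (hP : GrSeg.IsSegreMod ψ (fun n : ℤ => 𝒜 (n + a)) (fun n : ℤ => ℬ (n + b)) 𝒬 φ)
include hP

theorem mem_piece_of_map_mem {n : ℤ} {p : P} (h : φ p ∈ pc 𝒜 ℬ a b n) : p ∈ 𝒬 n := by
  have h' : φ p ∈ (pc 𝒜 ℬ a b n : Set (R ⊗[k] S)) := h
  rw [← hP.image_piece] at h'
  obtain ⟨q, hq, hqp⟩ := h'
  rw [← hP.injective hqp]
  exact hq

theorem map_mem_piece {n : ℤ} {p : P} (h : p ∈ 𝒬 n) : φ p ∈ pc 𝒜 ℬ a b n := by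
  have : φ p ∈ (pc 𝒜 ℬ a b n : Set (R ⊗[k] S)) := by
    rw [← hP.image_piece]
    exact ⟨p, h, rfl⟩
  exact this

theorem exists_of_mem_piece {n : ℤ} {e : R ⊗[k] S} (h : e ∈ pc 𝒜 ℬ a b n) :
    ∃ p ∈ 𝒬 n, φ p = e := by
  have h' : e ∈ (pc 𝒜 ℬ a b n : Set (R ⊗[k] S)) := h
  rw [← hP.image_piece] at h'
  exact h'

theorem map_smul' (t : T) (p : P) : φ (t • p) = ψ t * φ p := by
  rw [hP.map_smul, act_eq_mul]

end WithP

/-- Homogeneous tensors act homogeneously. -/
theorem mul_mem_pc {c n : ℤ} {z : R ⊗[k] S}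
    (hz : z ∈ Submodule.span k {x : R ⊗[k] S | ∃ r ∈ 𝒜 c, ∃ s ∈ ℬ c, x = r ⊗ₜ[k] s})
    {e : R ⊗[k] S} (he : e ∈ pc 𝒜 ℬ a b n) : z * e ∈ pc 𝒜 ℬ a b (c + n) := by
  induction hz using Submodule.span_induction with
  | mem z hz =>
    obtain ⟨r, hr, s, hs, rfl⟩ := hz
    rw [pc, GrSeg.segrePiece] at he
    induction he using Submodule.span_induction with
    | mem w hw =>
      obtain ⟨x, hx, y, hy, rfl⟩ := hw
      rw [Algebra.TensorProduct.tmul_mul_tmul]
      refine mem_pc 𝒜 ℬ a b ?_ ?_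
      · have := SetLike.mul_mem_graded hr hx
        rwa [← add_assoc] at this
      · have := SetLike.mul_mem_graded hs hy
        rwa [← add_assoc] at this
    | zero => simp
    | add x y _ _ hx hy => rw [mul_add]; exact Submodule.add_mem _ hx hy
    | smul r x _ hx => rw [mul_smul_comm]; exact Submodule.smul_mem _ _ hx
  | zero => simp
  | add x y _ _ hx hy => rw [add_mul]; exact Submodule.add_mem _ hx hy
  | smul r x _ hx => rw [smul_mul_assoc]; exact Submodule.smul_mem _ _ hx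

section Main

variable (hT : GrSeg.IsSegreRing 𝒜 ℬ 𝒯 ψ)
  (hP : GrSeg.IsSegreMod ψ (fun n : ℤ => 𝒜 (n + a)) (fun n : ℤ => ℬ (n + b)) 𝒬 φ)
include hT hP

theorem smul_mem_piece {c n : ℤ} {t : T} (ht : t ∈ 𝒯 c) {p : P} (hp : p ∈ 𝒬 n) :
    t • p ∈ 𝒬 (c + n) := by
  apply mem_piece_of_map_mem 𝒜 ℬ ψ 𝒬 φ a b hP
  rw [map_smul' 𝒜 ℬ ψ 𝒬 φ a b hP]
  have h1 : ψ t ∈ (𝒯 c).map ψ.toLinearMap := ⟨t, ht, rfl⟩
  rw [hT.2] at h1
  exact mul_mem_pc 𝒜 ℬ a b h1 (map_mem_piece 𝒜 ℬ ψ 𝒬 φ a b hP hp)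

theorem gradedSMul : SetLike.GradedSMul 𝒯 𝒬 :=
  ⟨fun {_ _ _ _} ht hp => smul_mem_piece 𝒜 ℬ 𝒯 ψ 𝒬 φ a b hT hP ht hp⟩

theorem piece_eq_bot (hposS : ∀ n : ℤ, n < 0 → ℬ n = ⊥) {n : ℤ} (hn : n + b < 0) : 𝒬 n = ⊥ := by
  rw [AddSubgroup.eq_bot_iff_forall]
  intro p hp
  have h1 := map_mem_piece 𝒜 ℬ ψ 𝒬 φ a b hP hp
  have h2 : pc 𝒜 ℬ a b n = ⊥ := by
    rw [pc, GrSeg.segrePiece, Submodule.span_eq_bot]
    rintro _ ⟨x, _, y, hy, rfl⟩
    have hy' : y ∈ ℬ (n + b) := hy
    rw [hposS _ hn, Submodule.mem_bot] at hy'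
    rw [hy', TensorProduct.tmul_zero]
  rw [h2, Submodule.mem_bot] at h1
  exact hP.injective (h1.trans (map_zero φ).symm)

end Main

/-- standard graded: `𝒜 m ≤ 𝒜 1 * 𝒜 (m - 1)`. -/
theorem le_mul_of_std
    (hstd : Ideal.span (⋃ n ∈ Set.Ioi (0 : ℤ), (𝒜 n : Set R))
      = Ideal.span ((𝒜 1 : Submodule k R) : Set R)) {m : ℤ} (hm : 1 ≤ m) :
    𝒜 m ≤ 𝒜 (m - 1) * 𝒜 1 := by
  classical
  intro x hx
  have h1 : x ∈ Ideal.span ((𝒜 1 : Submodule k R) : Set R) := by
    rw [← hstd]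
    apply Ideal.subset_span
    simp only [Set.mem_iUnion]
    exact ⟨m, Set.mem_Ioi.2 (by omega), hx⟩
  obtain ⟨f, t, ht, -, hsum⟩ := Submodule.mem_span_iff_exists_finset_subset.1 h1
  have h2 : x = ∑ z ∈ t, ((DirectSum.decompose 𝒜 (f z)) (m - 1) : R) * z := by
    have h3 : ((DirectSum.decompose 𝒜 x) m : R) = x := DirectSum.decompose_of_mem_same 𝒜 hx
    rw [← h3, ← hsum, DirectSum.decompose_sum, DFinsupp.finset_sum_apply,
      AddSubmonoidClass.coe_finset_sum]
    refine Finset.sum_congr rfl fun z hz => ?_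
    have hm' : m = (m - 1) + 1 := by ring
    rw [smul_eq_mul]
    conv_lhs => rw [hm']
    exact DirectSum.coe_decompose_mul_add_of_right_mem 𝒜 (ht hz)
  rw [h2]
  exact Submodule.sum_mem _ fun z hz =>
    Submodule.mul_mem_mul (SetLike.coe_mem _) (ht hz)

section Finrank

variable (hT : GrSeg.IsSegreRing 𝒜 ℬ 𝒯 ψ)
  (hP : GrSeg.IsSegreMod ψ (fun n : ℤ => 𝒜 (n + a)) (fun n : ℤ => ℬ (n + b)) 𝒬 φ)
include hT hP

theorem finrank_eq (hposS : ∀ n : ℤ, n < 0 → ℬ n = ⊥)
    (h0S : ℬ 0 = Submodule.span k {(1 : S)})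
    (hstdR : Ideal.span (⋃ n ∈ Set.Ioi (0 : ℤ), (𝒜 n : Set R))
      = Ideal.span ((𝒜 1 : Submodule k R) : Set R))
    (hstdS : Ideal.span (⋃ n ∈ Set.Ioi (0 : ℤ), (ℬ n : Set S))
      = Ideal.span ((ℬ 1 : Submodule k S) : Set S))
    [Nontrivial S] (mT : HomogeneousIdeal 𝒯)
    (hmT : mT.toIdeal = Ideal.span (⋃ n ∈ Set.Ioi (0 : ℤ), (𝒯 n : Set T))) (hab : b ≤ a) :
    Module.finrank k (P ⧸ (mT.toIdeal • (⊤ : Submodule T P)))
      = Module.finrank k (𝒜 (a - b)) := by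
  classical
  haveI := gradedSMul 𝒜 ℬ 𝒯 ψ 𝒬 φ a b hT hP
  set W : Submodule T P := mT.toIdeal • (⊤ : Submodule T P) with hW
  -- the projection to degree `-b`
  let π₀ : P →ₗ[k] P :=
    { toFun := projM 𝒬 (-b)
      map_add' := map_add _
      map_smul' := fun c p => by
        rw [RingHom.id_apply, ← algebraMap_smul T c p,
          projM_smul_of_mem 𝒯 𝒬 (SetLike.algebraMap_mem_graded 𝒯 c), sub_zero,
          algebraMap_smul] }
  have hπ₀ : ∀ p, π₀ p = projM 𝒬 (-b) p := fun _ => rfl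
  -- positive-degree elements kill the degree `-b` component
  have hkill : ∀ r ∈ mT.toIdeal, ∀ p : P, π₀ (r • p) = 0 := by
    intro r hr
    rw [hmT] at hr
    induction hr using Submodule.span_induction with
    | mem r hr =>
      simp only [Set.mem_iUnion] at hr
      obtain ⟨c, hc, hrc⟩ := hr
      intro p
      rw [hπ₀, projM_smul_of_mem 𝒯 𝒬 hrc]
      have h0 : projM 𝒬 (-b - c) p ∈ 𝒬 (-b - c) := projM_mem 𝒬 _ _
      rw [piece_eq_bot 𝒜 ℬ 𝒯 ψ 𝒬 φ a b hT hP hposS (by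
        have : 0 < c := hc
        omega), AddSubgroup.mem_bot] at h0
      rw [h0, smul_zero]
    | zero => intro p; rw [zero_smul, map_zero]
    | add x y _ _ hx hy => intro p; rw [add_smul, map_add, hx, hy, add_zero]
    | smul s x _ hx => intro p; rw [smul_eq_mul, mul_comm, mul_smul]; exact hx _
  -- pieces of degree `> -b` lie in `W`
  have hpos : ∀ n : ℤ, -b < n → ∀ p ∈ 𝒬 n, p ∈ W := by
    intro n hn p hp
    have hE : pc 𝒜 ℬ a b n ≤ (W.restrictScalars k).map φ := by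
      rw [pc, GrSeg.segrePiece, Submodule.span_le]
      rintro _ ⟨x, hx, y, hy, rfl⟩
      have hx' : x ∈ 𝒜 (n + a - 1) * 𝒜 1 := le_mul_of_std 𝒜 hstdR (by omega) hx
      have hy' : y ∈ ℬ (n + b - 1) * ℬ 1 := le_mul_of_std ℬ hstdS (by omega) hy
      clear hx hy
      refine Submodule.mul_induction_on hx' (fun x' hx' r hr => ?_) (fun x₁ x₂ h₁ h₂ => ?_)
      · refine Submodule.mul_induction_on hy' (fun y' hy' s hs => ?_) (fun y₁ y₂ h₁ h₂ => ?_)
        · have h1 : r ⊗ₜ[k] s ∈ (𝒯 1).map ψ.toLinearMap := by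
            rw [hT.2]
            exact Submodule.subset_span ⟨r, hr, s, hs, rfl⟩
          obtain ⟨t, ht, htψ⟩ := h1
          have htψ' : ψ t = r ⊗ₜ[k] s := htψ
          obtain ⟨q, -, hq⟩ := exists_of_mem_piece 𝒜 ℬ ψ 𝒬 φ a b hP
            (mem_pc 𝒜 ℬ a b (n := n - 1) (x := x') (y := y')
              (by have e : n - 1 + a = n + a - 1 := by ring
                  rw [e]; exact hx')
              (by have e : n - 1 + b = n + b - 1 := by ring
                  rw [e]; exact hy'))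
          refine ⟨t • q, ?_, ?_⟩
          · rw [Submodule.coe_restrictScalars]
            refine Submodule.smul_mem_smul ?_ Submodule.mem_top
            rw [hmT]
            apply Ideal.subset_span
            simp only [Set.mem_iUnion]
            exact ⟨1, Set.mem_Ioi.2 one_pos, ht⟩
          · rw [map_smul' 𝒜 ℬ ψ 𝒬 φ a b hP, htψ', hq, Algebra.TensorProduct.tmul_mul_tmul,
              mul_comm r, mul_comm s]
        · rw [TensorProduct.tmul_add]
          exact Submodule.add_mem _ h₁ h₂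
      · rw [TensorProduct.add_tmul]
        exact Submodule.add_mem _ h₁ h₂
    obtain ⟨w, hw, hwp⟩ := hE (map_mem_piece 𝒜 ℬ ψ 𝒬 φ a b hP hp)
    rw [← hP.injective hwp]
    exact hw
  -- kernel of the projection
  have hker : LinearMap.ker π₀ = W.restrictScalars k := by
    ext p
    rw [LinearMap.mem_ker, Submodule.restrictScalars_mem]
    constructor
    · intro h0
      rw [← DirectSum.sum_support_decompose 𝒬 p]
      refine Submodule.sum_mem _ fun n _ => ?_
      rcases lt_trichotomy n (-b) with h | h | h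
      · have h1 : projM 𝒬 n p ∈ 𝒬 n := projM_mem 𝒬 _ _
        rw [piece_eq_bot 𝒜 ℬ 𝒯 ψ 𝒬 φ a b hT hP hposS (by omega), AddSubgroup.mem_bot] at h1
        change projM 𝒬 n p ∈ W
        rw [h1]; exact W.zero_mem
      · subst h
        have : ((DirectSum.decompose 𝒬 p) (-b) : P) = 0 := h0
        rw [this]; exact W.zero_mem
      · exact hpos n h _ (SetLike.coe_mem _)
    · intro hp
      refine Submodule.smul_induction_on hp (fun r hr p _ => hkill r hr p)
        (fun x y hx hy => ?_)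
      rw [map_add, hx, hy, add_zero]
  -- the range of the projection
  have hrange : (LinearMap.range π₀).map φ = pc 𝒜 ℬ a b (-b) := by
    ext e
    constructor
    · rintro ⟨_, ⟨p, rfl⟩, rfl⟩
      exact map_mem_piece 𝒜 ℬ ψ 𝒬 φ a b hP (projM_mem 𝒬 _ _)
    · intro he
      obtain ⟨p, hp, rfl⟩ := exists_of_mem_piece 𝒜 ℬ ψ 𝒬 φ a b hP he
      exact ⟨p, ⟨p, projM_of_mem_same 𝒬 hp⟩, rfl⟩
  -- the lowest piece
  have hincl : Function.Injective
      (Algebra.TensorProduct.includeLeft : R →ₐ[k] R ⊗[k] S).toLinearMap :=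
    Algebra.TensorProduct.includeLeft_injective (S := k) (algebraMap k S).injective
  have hpc : pc 𝒜 ℬ a b (-b)
      = (𝒜 (a - b)).map (Algebra.TensorProduct.includeLeft : R →ₐ[k] R ⊗[k] S).toLinearMap := by
    have e1 : -b + a = a - b := by ring
    have e2 : -b + b = 0 := by ring
    apply le_antisymm
    · rw [pc, GrSeg.segrePiece, Submodule.span_le]
      rintro _ ⟨x, hx, y, hy, rfl⟩
      have hx' : x ∈ 𝒜 (a - b) := by rw [← e1]; exact hx
      have hy' : y ∈ ℬ 0 := by rw [← e2]; exact hy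
      rw [h0S, Submodule.mem_span_singleton] at hy'
      obtain ⟨c, rfl⟩ := hy'
      refine ⟨c • x, Submodule.smul_mem _ _ hx', ?_⟩
      rw [AlgHom.toLinearMap_apply, Algebra.TensorProduct.includeLeft_apply,
        TensorProduct.smul_tmul]
    · rintro _ ⟨x, hx, rfl⟩
      rw [AlgHom.toLinearMap_apply, Algebra.TensorProduct.includeLeft_apply]
      refine mem_pc 𝒜 ℬ a b ?_ ?_
      · rw [e1]; exact hx
      · rw [e2, h0S]; exact Submodule.mem_span_singleton_self 1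
  calc Module.finrank k (P ⧸ W)
      = Module.finrank k (P ⧸ W.restrictScalars k) :=
        (Submodule.Quotient.restrictScalarsEquiv k W).finrank_eq.symm
    _ = Module.finrank k (P ⧸ LinearMap.ker π₀) :=
        (Submodule.quotEquivOfEq _ _ hker).finrank_eq.symm
    _ = Module.finrank k (LinearMap.range π₀) := π₀.quotKerEquivRange.finrank_eq
    _ = Module.finrank k ((LinearMap.range π₀).map φ) :=
        (Submodule.equivMapOfInjective φ hP.injective _).finrank_eq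
    _ = Module.finrank k (pc 𝒜 ℬ a b (-b)) := by rw [hrange]
    _ = Module.finrank k ((𝒜 (a - b)).map
          (Algebra.TensorProduct.includeLeft : R →ₐ[k] R ⊗[k] S).toLinearMap) := by rw [hpc]
    _ = Module.finrank k (𝒜 (a - b)) :=
        (Submodule.equivMapOfInjective _ hincl _).finrank_eq.symm

end Finrank

end Groth.Agent.H9.SegreShift
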